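import Mathlib

/-!
# Linear algebra and group theory for S5923, D1 (helper857)

* `nilp_sq` : an endomorphism `α` of order 5 of a space over `F₅` and an invariant subspace `Φ` of codimension 2:
  `(α - 1)²` maps everything into `Φ`;
* `exists_cube` : `(α - 1)³ ≠ 0` when the dimension is 4 and the fixed space is of dimension at most 1;
* `exists_conj` : the Sylow argument.
-/

set_option autoImplicit false

namespace Cfsg.Agent.H857.L5

section Lin

variable {E : Type*} [AddCommGroup E] [Module (ZMod 5) E]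

theorem five_prime : Fact (Nat.Prime 5) := ⟨by norm_num⟩

attribute [local instance] five_prime

theorem sub_one_pow {α : E →ₗ[ZMod 5] E} (h : α ^ 5 = 1) : (α - 1) ^ 5 = 0 := by
  have h1 : (Polynomial.X - 1 : Polynomial (ZMod 5)) ^ 5 = Polynomial.X ^ 5 - 1 := by
    rw [sub_pow_char, one_pow]
  have h2 := congrArg (Polynomial.aeval α) h1
  simp only [map_pow, map_sub, map_one, Polynomial.aeval_X] at h2
  rw [h2, h, sub_self]

/-- `(α - 1)²` maps everything into an invariant subspace of codimension 2 -/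
theorem nilp_sq [FiniteDimensional (ZMod 5) E] {α : E →ₗ[ZMod 5] E} (h : α ^ 5 = 1) (Φ : Submodule (ZMod 5) E)
    (hΦ : ∀ φ ∈ Φ, α φ ∈ Φ) (hd : Module.finrank (ZMod 5) E = Module.finrank (ZMod 5) Φ + 2) (φ : E) :
    α (α φ) - 2 • α φ + φ ∈ Φ := by
  have hN : ∀ φ ∈ Φ, (α - 1) φ ∈ Φ := fun φ hφ => Φ.sub_mem (hΦ φ hφ) hφ
  have hq : Module.finrank (ZMod 5) (E ⧸ Φ) = 2 := by
    have := Φ.finrank_quotient_add_finrank
    omega
  set N : Module.End (ZMod 5) (E ⧸ Φ) := Φ.mapQ Φ (α - 1) hN with hNd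
  have hpow : ∀ (n : ℕ) (x : E), (N ^ n) (Submodule.Quotient.mk x) = Submodule.Quotient.mk (((α - 1) ^ n) x) := by
    intro n
    induction n with
    | zero => intro x; simp
    | succ n ih =>
      intro x
      rw [pow_succ', pow_succ', Module.End.mul_apply, Module.End.mul_apply, ih]
      rfl
  have h5 : N ^ 5 = 0 := by
    ext x
    show (N ^ 5) (Submodule.Quotient.mk x) = 0
    rw [hpow, sub_one_pow h]
    rfl
  have h2 : N ^ 2 = 0 := by
    have h3 := Module.End.ker_pow_le_ker_pow_finrank N 5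
    rw [hq, h5] at h3
    ext x
    exact h3 (by simp : Submodule.Quotient.mk x ∈ LinearMap.ker (0 : Module.End (ZMod 5) (E ⧸ Φ)))
  have h3 := hpow 2 φ
  rw [h2] at h3
  have h4 : (((α - 1 : Module.End (ZMod 5) E) ^ 2 : Module.End (ZMod 5) E)) φ ∈ Φ :=
    (Submodule.Quotient.mk_eq_zero Φ).1 h3.symm
  have h5 : (((α - 1 : Module.End (ZMod 5) E) ^ 2 : Module.End (ZMod 5) E)) φ = α (α φ) - 2 • α φ + φ := by
    rw [pow_two, Module.End.mul_apply]
    simp only [LinearMap.sub_apply, Module.End.one_apply, map_sub]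
    rw [two_nsmul]
    abel
  rwa [← h5]

theorem finrank_le_map [FiniteDimensional (ZMod 5) E] (N : E →ₗ[ZMod 5] E) (p : Submodule (ZMod 5) E) :
    Module.finrank (ZMod 5) p ≤ Module.finrank (ZMod 5) (p.map N) + Module.finrank (ZMod 5) (LinearMap.ker N) := by
  have h1 := LinearMap.finrank_range_add_finrank_ker (N.domRestrict p)
  have h2 : LinearMap.range (N.domRestrict p) = p.map N := by
    rw [LinearMap.domRestrict, LinearMap.range_comp, Submodule.range_subtype]
  have h3 : Module.finrank (ZMod 5) (LinearMap.ker (N.domRestrict p)) ≤ Module.finrank (ZMod 5) (LinearMap.ker N) := by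
    refine LinearMap.finrank_le_finrank_of_injective (f := (p.subtype.domRestrict _).codRestrict (LinearMap.ker N) ?_) ?_
    · intro x
      exact x.2
    · intro x y hxy
      have := congrArg Subtype.val hxy
      exact Subtype.ext (Subtype.ext this)
  rw [h2] at h1
  omega

/-- `(α - 1)³ ≠ 0` -/
theorem exists_cube [FiniteDimensional (ZMod 5) E] {N : E →ₗ[ZMod 5] E} (hE : Module.finrank (ZMod 5) E = 4)
    (hk : Module.finrank (ZMod 5) (LinearMap.ker N) ≤ 1) : ∃ φ, N (N (N φ)) ≠ 0 := by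
  by_contra hcon
  push Not at hcon
  have h1 := finrank_le_map N ⊤
  have h2 := finrank_le_map N ((⊤ : Submodule (ZMod 5) E).map N)
  have h3 := finrank_le_map N (((⊤ : Submodule (ZMod 5) E).map N).map N)
  have h4 : (((⊤ : Submodule (ZMod 5) E).map N).map N).map N = ⊥ := by
    rw [eq_bot_iff]
    rintro _ ⟨_, ⟨_, ⟨x, -, rfl⟩, rfl⟩, rfl⟩
    exact hcon x
  rw [h4, finrank_bot] at h3
  rw [finrank_top] at h1
  omega

end Lin

section Grp

variable {G : Type*} [Group G]

attribute [local instance] five_prime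

/-- **the Sylow argument** -/
theorem exists_conj [Finite G] (h6 : ¬ 5 ^ 6 ∣ Nat.card G) (T S : Subgroup G) (cT : Nat.card T = 625)
    (cS : Nat.card S = 125) : ∃ g : G, (∀ s ∈ S, ∀ t ∈ T, (g * s * g⁻¹) * t * (g * s * g⁻¹)⁻¹ ∈ T) ∧
      25 ≤ Nat.card ↥(S ⊓ T.comap (MulAut.conj g).toMonoidHom) := by
  have pT : IsPGroup 5 T := IsPGroup.of_card (n := 4) (by rw [cT]; norm_num)
  have pS : IsPGroup 5 S := IsPGroup.of_card (n := 3) (by rw [cS]; norm_num)
  obtain ⟨P, hP⟩ := pT.exists_le_sylow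
  obtain ⟨Q, hQ⟩ := pS.exists_le_sylow
  obtain ⟨g, hg⟩ := MulAction.exists_smul_eq G Q P
  have hgS : ∀ s ∈ S, g * s * g⁻¹ ∈ P := by
    intro s hs
    have h1 : g * s * g⁻¹ ∈ g • Q := Subgroup.smul_mem_pointwise_smul _ (MulAut.conj g) _ (hQ hs)
    rwa [hg] at h1
  obtain ⟨n, hn⟩ := (IsPGroup.iff_card).1 P.isPGroup'
  have hn5 : n ≤ 5 := by
    by_contra hcon
    push Not at hcon
    apply h6
    exact (pow_dvd_pow 5 hcon).trans (hn ▸ Subgroup.card_subgroup_dvd_card P.1)
  -- the index of `T` in `P`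
  have hmul : (T.subgroupOf P.1).index * Nat.card T = 5 ^ n := by
    have h1 := (T.subgroupOf P.1).index_mul_card
    rw [Nat.card_congr (Subgroup.subgroupOfEquivOfLe hP).toEquiv] at h1
    rw [h1]
    exact hn
  have hind : (T.subgroupOf P.1).index = 1 ∨ (T.subgroupOf P.1).index = 5 := by
    rw [cT] at hmul
    interval_cases n <;> omega
  have hnorm : (T.subgroupOf P.1).Normal := by
    rcases hind with h | h
    · rw [Subgroup.index_eq_one] at h
      rw [h]
      infer_instance
    · refine Subgroup.normal_of_index_eq_minFac_card ?_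
      have hn0 : n ≠ 0 := by
        rintro rfl
        rw [h, cT] at hmul
        norm_num at hmul
      show _ = (Nat.card ↥P.1).minFac
      rw [h]
      have h3 : Nat.card ↥P.1 = 5 ^ n := hn
      rw [h3, Nat.Prime.pow_minFac (by norm_num) hn0]
  refine ⟨g, fun s hs t ht => ?_, ?_⟩
  · have h1 := hnorm.conj_mem ⟨t, hP ht⟩ ht ⟨g * s * g⁻¹, hgS s hs⟩
    exact h1
  · -- counting
    set S' : Subgroup G := S.map (MulAut.conj g).toMonoidHom with hS'
    have hS'P : S' ≤ P.1 := by
      rintro _ ⟨s, hs, rfl⟩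
      exact hgS s hs
    have cS' : Nat.card S' = 125 := by
      rw [hS', ← cS]
      exact Nat.card_congr (S.equivMapOfInjective _ (MulAut.conj g).injective).symm.toEquiv
    have h1 : (T.subgroupOf P.1).relIndex (S'.subgroupOf P.1) ∣ (T.subgroupOf P.1).index :=
      Subgroup.relIndex_dvd_index_of_normal _ _
    have h2 : (T.subgroupOf P.1).relIndex (S'.subgroupOf P.1) ≤ 5 := by
      have := Nat.le_of_dvd (by rcases hind with h | h <;> rw [h] <;> norm_num) h1
      rcases hind with h | h <;> omega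
    have h3 : (T.subgroupOf P.1).relIndex (S'.subgroupOf P.1) = T.relIndex S' := by
      exact Subgroup.relIndex_subgroupOf hS'P
    rw [h3] at h2
    have h4 : T.relIndex S' * Nat.card ↥(T ⊓ S') = Nat.card S' := by
      rw [Subgroup.relIndex, ← Subgroup.card_mul_index (T.subgroupOf S'), mul_comm]
      congr 1
      rw [← Subgroup.inf_subgroupOf_right]
      exact (Nat.card_congr (Subgroup.subgroupOfEquivOfLe inf_le_right).toEquiv).symm
    have h5 : Nat.card ↥(S ⊓ T.comap (MulAut.conj g).toMonoidHom) = Nat.card ↥(T ⊓ S') := by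
      have h6 : T ⊓ S' = (S ⊓ T.comap (MulAut.conj g).toMonoidHom).map (MulAut.conj g).toMonoidHom := by
        ext x
        constructor
        · rintro ⟨hx, s, hs, rfl⟩
          exact ⟨s, ⟨hs, hx⟩, rfl⟩
        · rintro ⟨s, ⟨hs, hx⟩, rfl⟩
          exact ⟨hx, s, hs, rfl⟩
      rw [h6]
      exact Nat.card_congr (Subgroup.equivMapOfInjective _ _ (MulAut.conj g).injective).toEquiv
    rw [h5]
    rw [cS'] at h4
    by_contra hcon
    push Not at hcon
    have h6 : T.relIndex S' * Nat.card ↥(T ⊓ S') ≤ 5 * 24 := Nat.mul_le_mul h2 (by omega)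
    omega

end Grp

end Cfsg.Agent.H857.L5
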